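import Groth.Agent.Lib.EtDer.HpullComp
import Groth.Agent.Lib.EtSite.PushExact
import Groth.Agent.Lib.Constructible.FinEtalePush
import Groth.Agent.Lib.LocConst.Pull
import Groth.Agent.S14451
import Groth.Prelude.Def_EtLim

/-!
# Killing cohomology classes along finite etale covers
-/

set_option autoImplicit false
set_option backward.isDefEq.respectTransparency false
set_option linter.style.haveILetI false

universe u

open CategoryTheory CategoryTheory.Limits CategoryTheory.Abelian AlgebraicGeometry Opposite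

noncomputable section

namespace GrothLib.KPi18

/-- Preimages of finitely many components under an open and closed map with finite fibres. -/
theorem finite_connectedComponents {X Y : Type u} [TopologicalSpace X] [TopologicalSpace Y] (f : X → Y)
    (ho : IsOpenMap f) (hc : IsClosedMap f) (hfin : ∀ y, (f ⁻¹' {y}).Finite)
    [Finite (ConnectedComponents Y)] : Finite (ConnectedComponents X) := by
  classical
  let r : ConnectedComponents Y → Y := Function.surjInv ConnectedComponents.surjective_coe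
  let F : Set X := ⋃ c, f ⁻¹' {r c}
  have hF : F.Finite := Set.finite_iUnion fun c => hfin _
  have hne : ∀ A : Set X, IsClopen A → A.Nonempty → (A ∩ F).Nonempty := fun A hA ⟨a, ha⟩ => by
    have hfA : IsClopen (f '' A) := ⟨hc A hA.isClosed, ho A hA.isOpen⟩
    have hr : r (ConnectedComponents.mk (f a)) ∈ f '' A := by
      refine hfA.connectedComponent_subset ⟨a, ha, rfl⟩ ?_
      rw [← ConnectedComponents.coe_eq_coe']
      exact Function.surjInv_eq ConnectedComponents.surjective_coe _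
    obtain ⟨b, hb, hb'⟩ := hr
    exact ⟨b, hb, Set.mem_iUnion.2 ⟨_, hb'⟩⟩
  have hinj : ∀ A B : Set X, IsClopen A → IsClopen B → A ∩ F = B ∩ F → A ⊆ B := fun A B hA hB h x hx => by
    by_contra hx'
    obtain ⟨b, ⟨hb₁, hb₂⟩, hb₃⟩ := hne (A ∩ Bᶜ) (hA.inter hB.compl) ⟨x, hx, hx'⟩
    exact hb₂ ((Set.ext_iff.1 h b).1 ⟨hb₁, hb₃⟩).1
  haveI : Finite {A : Set X // IsClopen A} := by
    haveI := hF.to_subtype
    refine Finite.of_injective (fun A : {A : Set X // IsClopen A} => ({p | p.1 ∈ A.1} : Set F)) fun A B h => ?_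
    have h' : A.1 ∩ F = B.1 ∩ F := by
      ext x
      refine ⟨fun hx => ⟨(Set.ext_iff.1 h ⟨x, hx.2⟩).1 hx.1, hx.2⟩, fun hx => ⟨(Set.ext_iff.1 h ⟨x, hx.2⟩).2 hx.1, hx.2⟩⟩
    exact Subtype.ext ((hinj _ _ A.2 B.2 h').antisymm (hinj _ _ B.2 A.2 h'.symm))
  let atom : X → Set X := fun x => ⋂ A : {A : {A : Set X // IsClopen A} // x ∈ A.1}, A.1.1
  have hatom : ∀ x, IsClopen (atom x) := fun x => isClopen_iInter_of_finite fun A => A.1.2
  have hmem : ∀ x, x ∈ atom x := fun x => Set.mem_iInter.2 fun A => A.2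
  have hcc : ∀ x, atom x ⊆ connectedComponent x := fun x => by
    have hp : IsPreconnected (atom x) := by
      rw [isPreconnected_iff_subset_of_disjoint_closed]
      intro u v hu hv huv h0
      by_contra! hn
      obtain ⟨⟨a, ha, hau⟩, b, hb, hbv⟩ := Set.not_subset.1 hn.1, Set.not_subset.1 hn.2
      have e : atom x ∩ u = atom x ∩ vᶜ := by
        ext p
        refine ⟨fun ⟨hp, hpu⟩ => ⟨hp, fun hpv => ?_⟩, fun ⟨hp, hpv⟩ => ⟨hp, (huv hp).resolve_right hpv⟩⟩
        exact Set.eq_empty_iff_forall_notMem.1 h0 p ⟨hp, hpu, hpv⟩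
      have hcl : IsClopen (atom x ∩ u) :=
        ⟨(hatom x).isClosed.inter hu, e ▸ (hatom x).isOpen.inter hv.isOpen_compl⟩
      by_cases hxu : x ∈ u
      · exact hau ((Set.iInter_subset (fun A : {A : {A : Set X // IsClopen A} // x ∈ A.1} => A.1.1)
          ⟨⟨_, hcl⟩, hmem x, hxu⟩) ha).2
      · exact ((Set.iInter_subset (fun A : {A : {A : Set X // IsClopen A} // x ∈ A.1} => A.1.1)
          ⟨⟨_, hcl.compl⟩, fun h => hxu h.2⟩) hb) ⟨hb, (huv hb).resolve_right hbv⟩
    exact hp.subset_connectedComponent (hmem x)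
  haveI : Finite (Set.range atom) := by
    refine Finite.of_injective (fun A : Set.range atom =>
      (⟨A.1, by obtain ⟨x, hx⟩ := A.2; exact hx ▸ hatom x⟩ : {A : Set X // IsClopen A})) fun A B h => ?_
    exact Subtype.ext (congrArg Subtype.val h :)
  refine Finite.of_surjective (fun A : Set.range atom => ConnectedComponents.mk (Classical.choose A.2)) fun c => ?_
  obtain ⟨x, rfl⟩ := ConnectedComponents.surjective_coe c
  refine ⟨⟨atom x, x, rfl⟩, ConnectedComponents.coe_eq_coe'.2 (hcc x ?_)⟩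
  have h := Classical.choose_spec (⟨x, rfl⟩ : atom x ∈ Set.range atom)
  exact (Set.ext_iff.1 h _).1 (hmem _)

variable {X Y Z : Scheme.{u}}

theorem killedBy_pull (f : X ⟶ Y) {n : ℕ} {F : EtCoh.Ab Y} (hF : EtCoh.KilledBy n F) :
    EtCoh.KilledBy n ((EtCoh.pull f).obj F) := by
  haveI := GrothLib.EtDer.pullFL f
  haveI : (EtCoh.pull f).Additive := Functor.additive_of_preserves_binary_products _
  have h0 : (n • 𝟙 F : F ⟶ F) = 0 := by
    ext U s
    exact hF U.unop s
  have h1 : (n • 𝟙 ((EtCoh.pull f).obj F) : _ ⟶ _) = 0 := by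
    rw [← (EtCoh.pull f).map_id, ← Functor.map_nsmul, h0, Functor.map_zero]
  intro U s
  exact congrArg (fun k : (EtCoh.pull f).obj F ⟶ (EtCoh.pull f).obj F => k.hom.app (op U) s) h1

theorem killedBy_push (f : X ⟶ Y) {n : ℕ} {F : EtCoh.Ab X} (hF : EtCoh.KilledBy n F) :
    EtCoh.KilledBy n ((EtCoh.push f).obj F) := fun U s => hF ((EtCoh.bc f).obj U) s

/-- Pulling back a class along a composite kills it if the second pullback does. -/
theorem Hpull_comp_eq_zero (f : X ⟶ Y) (t : Y ⟶ Z) (f₀ : X ⟶ Z) (w : f ≫ t = f₀)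
    [PreservesFiniteLimits (EtCoh.pull f)] [PreservesFiniteLimits (EtCoh.pull t)]
    [PreservesFiniteLimits (EtCoh.pull f₀)] (G : EtCoh.Ab Z) (n : ℕ) (x : EtCoh.H Z G n) :
    EtCore.Hpull f₀ G n x = 0 ↔ EtCore.Hpull f ((EtCoh.pull t).obj G) n (EtCore.Hpull t G n x) = 0 := by
  have h := congrFun (GrothLib.EtDer.bijective_Hpull_comp_iff f t f₀ w G n) x
  rw [h]
  exact ⟨fun h' => (GrothLib.EtDer.bijective_comp_mk₀ (((EtCore.pullComp f t).symm ≪≫ EtCore.pullCongr w).app G) n).1
    (h'.trans (Ext.zero_comp _ _ _ _ _).symm), fun h' => (congrArg (fun z => Ext.comp z _ (add_zero n)) h').trans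
      (Ext.zero_comp _ _ _ _ _)⟩

/-- A class on a finite cover is killed along the base change of a cover of the base killing its preimage. -/
theorem exists_kill (f : X ⟶ Y) [IsFinite f] (F : EtCoh.Ab X) (q : ℕ) (ζ : EtCoh.H X F q)
    (h : ∀ x : EtCoh.H Y ((EtCoh.push f).obj F) q, ∃ (Y' : Scheme.{u}) (g : Y' ⟶ Y), IsFinite g ∧ Etale g ∧
      Surjective g ∧ ∀ [PreservesFiniteLimits (EtCoh.pull g)], EtCore.Hpull g ((EtCoh.push f).obj F) q x = 0) :
    ∃ (X' : Scheme.{u}) (g : X' ⟶ X), IsFinite g ∧ Etale g ∧ Surjective g ∧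
      ∀ [PreservesFiniteLimits (EtCoh.pull g)], EtCore.Hpull g F q ζ = 0 := by
  haveI := GrothLib.EtDer.pullFL f
  obtain ⟨x, hx⟩ := (Groth.Agent.S14451.result f F
    (fun r hr => GrothLib.EtSite.isZero_Rpush_of_integral f F r hr) q).2 ζ
  obtain ⟨Y', g, hg₁, hg₂, hg₃, hg⟩ := h x
  haveI := GrothLib.EtDer.pullFL g
  haveI := GrothLib.EtDer.pullFL (pullback.snd f g)
  refine ⟨pullback f g, pullback.fst f g, MorphismProperty.pullback_fst (P := @IsFinite) f g hg₁,
    MorphismProperty.pullback_fst (P := @Etale) f g hg₂, MorphismProperty.pullback_fst (P := @Surjective) f g hg₃, ?_⟩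
  intro _
  haveI := GrothLib.EtDer.pullFL (pullback.fst f g ≫ f)
  have h0 : EtCore.Hpull (pullback.fst f g ≫ f) ((EtCoh.push f).obj F) q x = 0 := by
    rw [Hpull_comp_eq_zero (pullback.snd f g) g (pullback.fst f g ≫ f) pullback.condition.symm, hg, map_zero]
  rw [Hpull_comp_eq_zero (pullback.fst f g) f _ rfl] at h0
  rw [← hx]
  change EtCore.Hpull (pullback.fst f g) F q
    (Ext.comp (EtCore.Hpull f ((EtCoh.push f).obj F) q x) (Ext.mk₀ ((EtCoh.pullPushAdj f).counit.app F)) (add_zero q)) = 0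
  rw [GrothLib.EtDer.Hpull_mk₀, h0, Ext.zero_comp]

end GrothLib.KPi18
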